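import Cfsg.Agent.Transfer.SL23Section
import Cfsg.Agent.Transfer.QuatSylow

/-!
# A group of order 24 with a normal `Q₈` not centralised by a 3-element is `SL(2,3)`
-/

set_option autoImplicit false

namespace Cfsg.Agent.SylowG2Aux.SL23Card

open Subgroup

/-- A group of order 24 with a normal subgroup `Q ≅ Q₈` and an element of odd order not
centralising `Q` is isomorphic to `SL(2,3)`. -/
theorem nonempty_mulEquiv {X : Type*} [Group X] (hX : Nat.card X = 24) (Q : Subgroup X)
    [Q.Normal] (hQ : Nonempty (Q ≃* QuaternionGroup 2)) (g : X) (hg : Odd (orderOf g))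
    (hgc : g ∉ Subgroup.centralizer (Q : Set X)) :
    Nonempty (X ≃* Matrix.SpecialLinearGroup (Fin 2) (ZMod 3)) := by
  have hfin : Finite X := Nat.finite_of_card_ne_zero (by rw [hX]; norm_num)
  obtain ⟨c, z, hq⟩ := Cfsg.Agent.Transfer.QuatSylow.exists_isQuat Q 1 (by simpa using hQ)
  obtain ⟨i, j, t, hrel, hi2, ht⟩ :=
    Cfsg.Agent.Transfer.SL23Section.exists_slrel_of_quaternion hq Q le_rfl g
      (by rw [Subgroup.normalizer_eq_top]; exact mem_top g) hg hgc
  -- `t` has order 3
  have hjne : j ≠ i := by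
    rintro rfl
    exact Cfsg.Agent.Transfer.SL23Section.j_not_commute hrel.toQRel hi2 (Commute.refl _)
  have htne : t ≠ 1 := by
    rintro rfl
    apply hjne
    have := hrel.hti
    simpa using this.symm
  have ht3 : t ^ 3 = 1 := by
    have h1 : orderOf t ∣ 8 * 3 := by
      have := orderOf_dvd_natCard t
      rwa [hX] at this
    have h2 : orderOf t ∣ 3 := by
      refine Nat.Coprime.dvd_of_dvd_mul_left ?_ h1
      rw [show (8 : ℕ) = 2 ^ 3 from rfl]
      exact Nat.Coprime.pow_right 3 (Nat.coprime_two_right.mpr ht)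
    exact orderOf_dvd_iff_pow_eq_one.mp h2
  have h8 : 8 ∣ Nat.card (closure ({i, j, t} : Set X)) := by
    rw [← Cfsg.Agent.Transfer.SL23Section.card_quaternion hrel.toQRel hi2]
    apply card_dvd_of_le
    apply Subgroup.closure_mono
    intro x hx
    rcases hx with rfl | hx
    · simp
    · rw [Set.mem_singleton_iff] at hx; subst hx; simp
  have h3 : 3 ∣ Nat.card (closure ({i, j, t} : Set X)) := by
    have h4 : zpowers t ≤ closure ({i, j, t} : Set X) := by
      rw [zpowers_le]; exact subset_closure (by simp)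
    have h5 := card_dvd_of_le h4
    rwa [Nat.card_zpowers, orderOf_eq_prime ht3 htne] at h5
  have h24 : 24 ∣ Nat.card (closure ({i, j, t} : Set X)) := by
    rw [show (24 : ℕ) = 8 * 3 from rfl]
    exact Nat.Coprime.mul_dvd_of_dvd_of_dvd (by norm_num) h8 h3
  have hgen : closure ({i, j, t} : Set X) = ⊤ := by
    apply Subgroup.eq_top_of_card_eq
    rw [hX]
    refine le_antisymm ?_ (Nat.le_of_dvd Nat.card_pos h24)
    rw [← hX]
    exact Subgroup.card_le_card_group _
  exact Cfsg.Agent.Transfer.SL23Recog.sl23_of_relations hrel ht3 hgen hX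

end Cfsg.Agent.SylowG2Aux.SL23Card
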